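import Groth.Agent.Lib.HomSheaf.Basic
import Groth.Agent.Lib.Modules.Support
import Mathlib.Algebra.Homology.DerivedCategory.Ext.ExactSequences
import Mathlib.Algebra.Homology.DerivedCategory.Ext.EnoughProjectives
import Mathlib.Algebra.Category.ModuleCat.Projective

/-!
# The dual, its twists, and `Ext` of the stalks

`homEquiv`: `(O ⟶ D(M) ⊗ L) ≃ (M ⟶ L)`, natural in `M`; vanishing of `Ext^j(M_x, O_x)` through resolutions.
-/

universe u

noncomputable section

open CategoryTheory CategoryTheory.Limits AlgebraicGeometry TopologicalSpace Opposite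

namespace Groth.Agent.Lib.HomSheaf.Ext

open Groth.Agent.Lib Groth.Agent.Lib.HomSheaf.Basic Groth.Agent.Lib.TensorMod.Dual
open Groth.Agent.Lib.TensorMod.Basic (tmap)

variable {X : Scheme.{u}} {M N L : X.Modules}

/-- A morphism out of `O` is a global section. -/
def secEquiv (H : X.Modules) : (Coh.structureModule X ⟶ H) ≃ Γ(H, ⊤) :=
  Equiv.ofBijective (fun φ => φ.app ⊤ (TensorMod.Gen.one X ⊤)) ⟨fun φ ψ h => by
    ext W a
    refine (TensorMod.Gen.app_eq_smul φ a).trans
      (Eq.trans ?_ (TensorMod.Gen.app_eq_smul ψ a).symm)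
    rw [← TensorMod.Gen.rs_app_one φ (le_top (a := W)), ← TensorMod.Gen.rs_app_one ψ (le_top (a := W))]
    exact congrArg (fun t => (show Γ(X, W) from a) • rs H (le_top (a := W)) t) h, fun s => by
    obtain ⟨φ, hφ⟩ := TensorMod.Gen.exists_hom_of_family (fun W => rs H le_top s)
      fun V W h => rs_rs H le_top h s
    exact ⟨φ, (hφ ⊤).trans (rs_self H le_top s)⟩⟩

lemma secEquiv_comp {H H' : X.Modules} (φ : Coh.structureModule X ⟶ H) (ψ : H ⟶ H') :
    secEquiv H' (φ ≫ ψ) = ψ.app ⊤ (secEquiv H φ) := rfl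

variable [IsLocallyNoetherian X]

/-- `(O ⟶ D(M) ⊗ L) ≃ (M ⟶ L)`. -/
def homEquiv (hM : Coh.IsCoh M) (hL : PicF.IsInvertible L) :
    (Coh.structureModule X ⟶ CohB1.tensorMod (_root_.RefHull.dual M) L) ≃ (M ⟶ L) :=
  (Iso.homToEquiv (@asIso _ _ _ _ (tens M (Coh.structureModule X) L) (isIso_tens hM hL))).trans
    ((secEquiv _).trans (topEquiv.symm.trans (Iso.homToEquiv (TensorMod.Basic.leftUnit L))))

theorem homEquiv_natural (hM : Coh.IsCoh M) (hN : Coh.IsCoh N) (hL : PicF.IsInvertible L) (f : M ⟶ N)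
    (φ : Coh.structureModule X ⟶ CohB1.tensorMod (_root_.RefHull.dual N) L) :
    homEquiv hM hL (φ ≫ tmap (pre f (Coh.structureModule X)) (𝟙 L)) = f ≫ homEquiv hN hL φ := by
  let O := Coh.structureModule X
  let s := secEquiv _ (φ ≫ tens N O L)
  have h1 : secEquiv _ ((φ ≫ tmap (pre f O) (𝟙 L)) ≫ tens M O L) =
      topEquiv (f ≫ topEquiv.symm s) := by
    rw [← pre_app_topEquiv, Equiv.apply_symm_apply, Category.assoc, tens_natural f hM,
      ← Category.assoc, secEquiv_comp]
  show topEquiv.symm (secEquiv _ ((φ ≫ tmap (pre f O) (𝟙 L)) ≫ tens M O L)) ≫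
      (TensorMod.Basic.leftUnit L).hom = f ≫ (topEquiv.symm s ≫ (TensorMod.Basic.leftUnit L).hom)
  rw [h1, Equiv.symm_apply_apply, Category.assoc]

omit [IsLocallyNoetherian X] in
theorem isZero_of_subsingleton_stalk [CompactSpace X] (hM : Coh.IsCoh M)
    (h : ∀ x : X, IsClosed ({x} : Set X) → Subsingleton (M.presheaf.stalk x)) : IsZero M := by
  haveI := hM.2
  refine Modules.Support.support_eq_empty_iff.1 (Set.eq_empty_iff_forall_notMem.2 fun z hz => ?_)
  obtain ⟨x, hx, hxc⟩ := IsClosed.exists_closed_singleton (Modules.Support.isClosed_support M) ⟨z, hz⟩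
  exact Modules.Support.not_mem_support_iff.2 (h x hxc) hx

omit [IsLocallyNoetherian X] in
theorem epi_of_surjective_stalk [CompactSpace X] (r : M ⟶ N) (hM : Coh.IsQCoh M) (hN : Coh.IsCoh N)
    [IsLocallyNoetherian X]
    (h : ∀ x : X, IsClosed ({x} : Set X) → Function.Surjective (_root_.RefHull.stalkMapₗ r x)) :
    Epi r := by
  refine Preadditive.epi_of_isZero_cokernel r
    (isZero_of_subsingleton_stalk (CohBasics.Closure.isCoh_cokernel r hM hN) fun x hx => ?_)
  refine subsingleton_of_forall_eq 0 fun v => ?_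
  obtain ⟨w, rfl⟩ := (Modules.StalkModule.epi_iff_stalkMapₗ_surjective (cokernel.π r)).1 inferInstance x v
  obtain ⟨t, rfl⟩ := h x hx w
  have e := LinearMap.congr_fun (Modules.StalkModule.stalkMapₗ_comp r (cokernel.π r) x) t
  rw [cokernel.condition, Modules.StalkModule.stalkMapₗ_zero] at e
  exact e.symm

/-! ### Stalks -/

variable (x : X)

/-- `Ext^j(M_x, O_x) = 0`. -/
def StalkExtVanish (j : ℕ) (M : X.Modules) : Prop :=
  Subsingleton (Abelian.Ext (ModuleCat.of (X.presheaf.stalk x) (M.presheaf.stalk x))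
    (ModuleCat.of (X.presheaf.stalk x) (X.presheaf.stalk x)) j)

theorem stalkExtVanish_zero_iff (hM : Coh.IsCoh M) :
    StalkExtVanish x 0 M ↔ Subsingleton ((_root_.RefHull.dual M).presheaf.stalk x) :=
  (Abelian.Ext.addEquiv₀.toEquiv.subsingleton_congr.trans
    ((ModuleCat.homLinearEquiv (S := ℤ)).toEquiv.subsingleton_congr)).trans
    (RefHull.Reflexive.dualStalkEquiv hM x).toEquiv.subsingleton_congr.symm

omit [IsLocallyNoetherian X] in
theorem projective_stalk (hL : PicF.IsInvertible L) :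
    Projective ((Modules.StalkModule.stalkModFunctor X x).obj L) := by
  obtain ⟨U, e, hx, he⟩ := TensorMod.Gen.isInvertible_iff.1 hL x
  have hb := H34.UFDExt.Gen.IsGen.stalk_bijective (M := L) (fun W h => he W h) hx
  let ε : X.presheaf.stalk x ≃ₗ[X.presheaf.stalk x] L.presheaf.stalk x :=
    LinearEquiv.ofBijective (LinearMap.toSpanSingleton _ _ (L.presheaf.germ U x hx e)) hb
  haveI : Module.Projective (X.presheaf.stalk x) (L.presheaf.stalk x) := Module.Projective.of_equiv ε
  exact (IsProjective.iff_projective (L.presheaf.stalk x)).1 inferInstance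

omit [IsLocallyNoetherian X] in
theorem projective_stalk_sigma {ι : Type} (hL : PicF.IsInvertible L) :
    Projective ((Modules.StalkModule.stalkModFunctor X x).obj (∐ fun _ : ι => L)) := by
  haveI : PreservesColimitsOfSize.{0, 0} (Modules.StalkModule.stalkModFunctor X x) :=
    preservesColimitsOfSize_shrink.{0, u, 0, u} _
  haveI := projective_stalk x hL
  haveI : HasCoproduct fun _ : ι => (Modules.StalkModule.stalkModFunctor X x).obj L :=
    hasColimit_of_iso (Discrete.compNatIsoDiscrete (fun _ : ι => L) _).symm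
  let g : ι → ModuleCat.{u} (X.presheaf.stalk x) := fun _ => (Modules.StalkModule.stalkModFunctor X x).obj L
  have hg : ∀ b, Projective (g b) := fun _ => projective_stalk x hL
  haveI : HasCoproduct g := this
  have hp : Projective (∐ g) :=
    { factors := fun f e he => ⟨Sigma.desc fun b => @Projective.factorThru _ _ _ _ _
          (hg b) (Sigma.ι g b ≫ f) e he,
        Sigma.hom_ext _ _ fun b => by
          rw [← Category.assoc, Sigma.ι_desc]
          exact @Projective.factorThru_comp _ _ _ _ _ (hg b) _ e he⟩ }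
  exact Projective.of_iso
    (PreservesCoproduct.iso (Modules.StalkModule.stalkModFunctor X x) fun _ : ι => L).symm hp

section General

open CategoryTheory.Abelian

variable {C : Type*} [Category* C] [Abelian C] [HasExt.{u} C] {T : ShortComplex C} (hT : T.ShortExact)
  [Projective T.X₂] (Y : C)
include hT

theorem subsingleton_ext_succ_iff (q : ℕ) :
    Subsingleton (Ext.{u} T.X₃ Y (q + 1 + 1)) ↔ Subsingleton (Ext.{u} T.X₁ Y (q + 1)) := by
  constructor
  · intro h
    refine subsingleton_of_forall_eq 0 fun y => ?_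
    obtain ⟨z, hz⟩ := Ext.contravariant_sequence_exact₁ hT Y y (Nat.add_comm 1 (q + 1))
      (Subsingleton.elim _ _)
    rw [← hz, Ext.eq_zero_of_projective z, Ext.comp_zero]
  · intro h
    refine subsingleton_of_forall_eq 0 fun y => ?_
    obtain ⟨z, hz⟩ := Ext.contravariant_sequence_exact₃ hT Y y (Ext.eq_zero_of_projective _)
      (Nat.add_comm 1 (q + 1))
    rw [← hz, Subsingleton.elim z 0, Ext.comp_zero]

theorem subsingleton_ext_one_iff :
    Subsingleton (Ext.{u} T.X₃ Y 1) ↔ Function.Surjective fun φ : T.X₂ ⟶ Y => T.f ≫ φ := by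
  constructor
  · intro h ψ
    obtain ⟨z, hz⟩ := Ext.contravariant_sequence_exact₁ hT Y (Ext.mk₀ ψ) (add_zero 1)
      (Subsingleton.elim _ _)
    obtain ⟨φ, rfl⟩ := (Ext.mk₀_bijective _ _).2 z
    exact ⟨φ, (Ext.mk₀_bijective _ _).1 ((Ext.mk₀_comp_mk₀ _ _).symm.trans hz)⟩
  · intro h
    refine subsingleton_of_forall_eq 0 fun y => ?_
    obtain ⟨z, hz⟩ := Ext.contravariant_sequence_exact₃ hT Y y (Ext.eq_zero_of_projective _) (add_zero 1)
    obtain ⟨ψ, rfl⟩ := (Ext.mk₀_bijective _ _).2 z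
    obtain ⟨φ, hφ⟩ := h ψ
    rw [← hz, ← hφ, ← Ext.mk₀_comp_mk₀]
    exact (Ext.comp_assoc _ _ _ (add_zero 1) (zero_add 0) (by omega)).symm.trans
      (by rw [hT.extClass_comp, Ext.zero_comp])

end General

variable {S : ShortComplex X.Modules} (hS : S.ShortExact)
  (hP : Projective ((Modules.StalkModule.stalkModFunctor X x).obj S.X₂))
include hS hP

omit [IsLocallyNoetherian X] in
theorem stalkExtVanish_succ_iff {q : ℕ} (hq : q ≠ 0) :
    StalkExtVanish x (q + 1) S.X₃ ↔ StalkExtVanish x q S.X₁ := by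
  obtain ⟨q, rfl⟩ := Nat.exists_eq_succ_of_ne_zero hq
  haveI : Projective (S.map (Modules.StalkModule.stalkModFunctor X x)).X₂ := hP
  exact subsingleton_ext_succ_iff (hS.map_of_exact (Modules.StalkModule.stalkModFunctor X x))
    (ModuleCat.of (X.presheaf.stalk x) (X.presheaf.stalk x)) q

theorem stalkExtVanish_one_iff (h1 : Coh.IsCoh S.X₁) (h2 : Coh.IsCoh S.X₂) :
    StalkExtVanish x 1 S.X₃ ↔
      Function.Surjective (_root_.RefHull.stalkMapₗ (pre S.f (Coh.structureModule X)) x) := by
  let f := Modules.StalkModule.stalkMapₗ S.f x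
  have key : StalkExtVanish x 1 S.X₃ ↔ Function.Surjective fun φ : S.X₂.presheaf.stalk x →ₗ[X.presheaf.stalk x]
      X.presheaf.stalk x => φ.comp f := by
    haveI : Projective (S.map (Modules.StalkModule.stalkModFunctor X x)).X₂ := hP
    refine (subsingleton_ext_one_iff (hS.map_of_exact (Modules.StalkModule.stalkModFunctor X x))
      (ModuleCat.of (X.presheaf.stalk x) (X.presheaf.stalk x))).trans ⟨fun h ψ => ?_, fun h ψ => ?_⟩
    · obtain ⟨φ, hφ⟩ := h (ModuleCat.ofHom ψ)
      exact ⟨φ.hom, congrArg ModuleCat.Hom.hom hφ⟩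
    · obtain ⟨φ, hφ⟩ := h ψ.hom
      exact ⟨ModuleCat.ofHom φ, ModuleCat.hom_ext hφ⟩
  have hcomm : ∀ v, RefHull.Reflexive.dualStalkEquiv h1 x
      (_root_.RefHull.stalkMapₗ (pre S.f (Coh.structureModule X)) x v) =
        (RefHull.Reflexive.dualStalkEquiv h2 x v).comp f := fun v => LinearMap.ext fun w => by
    rw [LinearMap.comp_apply, RefHull.Reflexive.dualStalkEquiv_apply,
      RefHull.Reflexive.dualStalkEquiv_apply, evalStalk_pre]
    rfl
  rw [key]
  constructor
  · intro h v
    obtain ⟨φ, hφ⟩ := h (RefHull.Reflexive.dualStalkEquiv h1 x v)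
    exact ⟨(RefHull.Reflexive.dualStalkEquiv h2 x).symm φ, (RefHull.Reflexive.dualStalkEquiv h1 x).injective
      ((hcomm _).trans (by rw [LinearEquiv.apply_symm_apply]; exact hφ))⟩
  · intro h ψ
    obtain ⟨v, hv⟩ := h ((RefHull.Reflexive.dualStalkEquiv h1 x).symm ψ)
    exact ⟨RefHull.Reflexive.dualStalkEquiv h2 x v,
      (hcomm v).symm.trans (by rw [hv, LinearEquiv.apply_symm_apply])⟩

end Groth.Agent.Lib.HomSheaf.Ext
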