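import Groth.Agent.Lib.RefHull.Tensor
import Groth.Agent.Lib.RefHull.Colim
import Groth.Agent.Lib.TensorMod.Pullback
import Groth.Agent.Lib.TensorMod.Invertible
import Groth.Agent.H34.UFDExt.Gen

/-!
# Functoriality of the sheaf Hom in the source, and its compatibility with twists

`pre f : homSh N G ⟶ homSh M G` for `f : M ⟶ N`; `topEquiv : (M ⟶ G) ≃ Γ(homSh M G, ⊤)`;
`tens M G L : homSh M G ⊗ L ⟶ homSh M (G ⊗ L)`, an isomorphism for `M` coherent and `L` invertible.
-/

universe u

noncomputable section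

open CategoryTheory AlgebraicGeometry TopologicalSpace Opposite
open scoped TensorProduct

namespace Groth.Agent.Lib.HomSheaf.Basic

open Groth.Agent.Lib Groth.Agent.Lib.TensorMod.Dual RefHull.SecHom
open Groth.Agent.Lib.TensorMod.Basic (tmap)

variable {X : Scheme.{u}} {M N K G L : X.Modules}

/-! ### Precomposition -/

/-- Precomposition on sections. -/
def preFun (f : M ⟶ N) (G : X.Modules) (U : X.Opens) :
    Γ(_root_.RefHull.homSh N G, U) →+ Γ(_root_.RefHull.homSh M G, U) where
  toFun g := ⟨fun y => (g.1 y).comp (_root_.RefHull.stalkMapₗ f y.1), fun V i m x => by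
    obtain ⟨W, hxW, j, n, hn⟩ := _root_.RefHull.isLocSect_of_mem g V i (f.app V m) x
    exact ⟨W, hxW, j, n, fun y => by
      rw [LinearMap.comp_apply, _root_.RefHull.stalkMapₗ_germ]; exact hn y⟩⟩
  map_zero' := Subtype.ext <| funext fun _ => LinearMap.zero_comp _
  map_add' _ _ := Subtype.ext <| funext fun _ => LinearMap.add_comp _ _ _

/-- Precomposition by a morphism. -/
def pre (f : M ⟶ N) (G : X.Modules) : _root_.RefHull.homSh N G ⟶ _root_.RefHull.homSh M G :=
  ⟨PresheafOfModules.homMk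
    { app := fun U => AddCommGrpCat.ofHom (preFun f G U.unop)
      naturality := fun {U V} i => rfl }
    (fun U r g => Subtype.ext <| funext fun _ => LinearMap.smul_comp _ _ _)⟩

lemma evalStalk_pre (f : M ⟶ N) (G : X.Modules) (x : X)
    (v : (_root_.RefHull.homSh N G).presheaf.stalk x) :
    _root_.RefHull.evalStalk M G x (_root_.RefHull.stalkMapₗ (pre f G) x v) =
      (_root_.RefHull.evalStalk N G x v).comp (_root_.RefHull.stalkMapₗ f x) := by
  obtain ⟨U, hx, g, rfl⟩ := TopCat.Presheaf.exists_germ_eq (_root_.RefHull.homSh N G).presheaf v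
  rw [_root_.RefHull.stalkMapₗ_germ, _root_.RefHull.evalStalk_germ, _root_.RefHull.evalStalk_germ]
  rfl

/-- A morphism is a global section of the sheaf Hom. -/
def topEquiv : (M ⟶ G) ≃ Γ(_root_.RefHull.homSh M G, ⊤) where
  toFun φ := _root_.RefHull.ofHom φ ⊤
  invFun g := RefHull.Colim.toHom g
  left_inv φ := Modules.StalkModule.hom_ext_stalkMapₗ fun x => RefHull.Colim.stalkMap_toHom _ x
  right_inv g := Subtype.ext <| funext fun y => RefHull.Colim.stalkMap_toHom g y.1

lemma pre_app_topEquiv (f : M ⟶ N) (φ : N ⟶ G) :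
    (pre f G).app ⊤ (topEquiv φ) = topEquiv (f ≫ φ) :=
  Subtype.ext <| funext fun y => LinearMap.ext fun v => (RefHull.Colim.stalkMap_comp f φ y.1 v).symm

lemma topEquiv_zero : topEquiv (0 : M ⟶ G) = 0 :=
  Subtype.ext <| funext fun y => Modules.StalkModule.stalkMapₗ_zero y.1

/-! ### Twisting -/

lemma app_tmul_eq_pairM {H : X.Modules} (g : CohB1.tensorMod M N ⟶ H) {U : X.Opens} (m : Γ(M, U))
    (n : Γ(N, U)) : g.app U (SecTwist.tmul M N U m n) = TensorMod.Free.pairM g m n := rfl

lemma stalkMap_pair_germ {H : X.Modules} (g : CohB1.tensorMod M N ⟶ H) {U : X.Opens} {x : X}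
    (hx : x ∈ U) (m : Γ(M, U)) (n : Γ(N, U)) :
    _root_.RefHull.stalkMapₗ g x (RefHull.Tensor.pair x (M.presheaf.germ U x hx m)
        (N.presheaf.germ U x hx n)) = H.presheaf.germ U x hx (TensorMod.Free.pairM g m n) :=
  (congrArg (_root_.RefHull.stalkMapₗ g x) (RefHull.Tensor.pair_germ hx m n)).trans
    ((_root_.RefHull.stalkMapₗ_germ g x hx _).trans (congrArg _ (app_tmul_eq_pairM g m n)))

lemma stalkMap_tmap {M' N' : X.Modules} (f : M ⟶ M') (g : N ⟶ N') (x : X) (a : M.presheaf.stalk x)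
    (b : N.presheaf.stalk x) :
    _root_.RefHull.stalkMapₗ (tmap f g) x (RefHull.Tensor.pair x a b) =
      RefHull.Tensor.pair x (_root_.RefHull.stalkMapₗ f x a) (_root_.RefHull.stalkMapₗ g x b) := by
  obtain ⟨U, hx, m, rfl⟩ := TopCat.Presheaf.exists_germ_eq M.presheaf a
  obtain ⟨V, hx', n, rfl⟩ := TopCat.Presheaf.exists_germ_eq N.presheaf b
  have h : x ∈ U ⊓ V := ⟨hx, hx'⟩
  rw [← germ_rs (M := M) inf_le_left h m, ← germ_rs (M := N) inf_le_right h n,
    stalkMap_pair_germ _ h, _root_.RefHull.stalkMapₗ_germ, _root_.RefHull.stalkMapₗ_germ]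
  refine Eq.trans ?_ (RefHull.Tensor.pair_germ h _ _).symm
  exact congrArg _ ((TensorMod.Free.pairM_tmap f g _ _).trans (app_tmul_eq_pairM (𝟙 _) _ _).symm)

lemma stalk_ext_pair {P : Type u} [AddCommGroup P] {x : X} [Module (X.presheaf.stalk x) P]
    {a b : (CohB1.tensorMod M N).presheaf.stalk x →ₗ[X.presheaf.stalk x] P}
    (h : ∀ v w, a (RefHull.Tensor.pair x v w) = b (RefHull.Tensor.pair x v w)) : a = b := by
  have e : a.comp (RefHull.Tensor.tStalk M N x).symm.toLinearMap =
      b.comp (RefHull.Tensor.tStalk M N x).symm.toLinearMap :=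
    TensorProduct.ext' fun v w => h v w
  refine LinearMap.ext fun z => ?_
  have := LinearMap.congr_fun e (RefHull.Tensor.tStalk M N x z)
  simpa using this

variable (M G L)

/-- The pairing defining `tens`. -/
def tensSec (U : X.Opens) (h : Γ(_root_.RefHull.homSh M G, U)) (l : Γ(L, U)) :
    Γ(_root_.RefHull.homSh M (CohB1.tensorMod G L), U) :=
  ⟨fun y => ((RefHull.Tensor.pair y.1).flip (L.presheaf.germ U y.1 y.2 l)).comp (h.1 y),
    fun V i m x => ⟨V, x.2, 𝟙 V, SecTwist.tmul G L V (app h i.le m) (rs L i.le l), fun y => by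
      rw [← RefHull.Tensor.pair_germ (F := G) (G := L), germ_app, germ_rs]
      rfl⟩⟩

lemma exists_tens : ∃ g : CohB1.tensorMod (_root_.RefHull.homSh M G) L ⟶
    _root_.RefHull.homSh M (CohB1.tensorMod G L),
      ∀ U h l, TensorMod.Free.pairM g h l = tensSec M G L U h l := by
  refine TensorMod.Pullback.exists_hom_of_pairing (tensSec M G L) ?_ ?_ ?_ ?_ ?_
  · intro U h h' l
    exact Subtype.ext <| funext fun y => LinearMap.comp_add _ _ _
  · intro U h l l'
    refine Subtype.ext <| funext fun y => ?_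
    show ((RefHull.Tensor.pair y.1).flip (L.presheaf.germ U y.1 y.2 (l + l'))).comp (h.1 y) = _
    rw [map_add, map_add, LinearMap.add_comp]
    rfl
  · intro U r h l
    exact Subtype.ext <| funext fun y => LinearMap.comp_smul _ _ _
  · intro U r h l
    refine Subtype.ext <| funext fun y => ?_
    show ((RefHull.Tensor.pair y.1).flip (L.presheaf.germ U y.1 y.2 (r • l))).comp (h.1 y) = _
    rw [Mero.germ_smul, map_smul, LinearMap.smul_comp]
    rfl
  · intro U V i h l
    refine Subtype.ext <| funext fun y => ?_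
    show ((RefHull.Tensor.pair y.1).flip (L.presheaf.germ V y.1 (i.le y.2) l)).comp (h.1 ⟨y.1, i.le y.2⟩) = _
    rw [← germ_rs (M := L) i.le y.2 l]
    rfl

/-- `𝓗om(M, G) ⊗ L ⟶ 𝓗om(M, G ⊗ L)`. -/
def tens : CohB1.tensorMod (_root_.RefHull.homSh M G) L ⟶
    _root_.RefHull.homSh M (CohB1.tensorMod G L) :=
  (exists_tens M G L).choose

variable {M G L}

lemma evalStalk_tens (x : X) (v : (_root_.RefHull.homSh M G).presheaf.stalk x)
    (w : L.presheaf.stalk x) :
    _root_.RefHull.evalStalk M (CohB1.tensorMod G L) x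
        (_root_.RefHull.stalkMapₗ (tens M G L) x (RefHull.Tensor.pair x v w)) =
      ((RefHull.Tensor.pair x).flip w).comp (_root_.RefHull.evalStalk M G x v) := by
  obtain ⟨U, hx, h, rfl⟩ := TopCat.Presheaf.exists_germ_eq (_root_.RefHull.homSh M G).presheaf v
  obtain ⟨V, hx', l, rfl⟩ := TopCat.Presheaf.exists_germ_eq L.presheaf w
  have hxUV : x ∈ U ⊓ V := ⟨hx, hx'⟩
  rw [← germ_rs (M := _root_.RefHull.homSh M G) inf_le_left hxUV h,
    ← germ_rs (M := L) inf_le_right hxUV l, stalkMap_pair_germ _ hxUV,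
    _root_.RefHull.evalStalk_germ, _root_.RefHull.evalStalk_germ]
  exact congrArg (fun s : Γ(_root_.RefHull.homSh M (CohB1.tensorMod G L), U ⊓ V) => s.1 ⟨x, hxUV⟩)
    ((exists_tens M G L).choose_spec (U ⊓ V) (rs _ inf_le_left h) (rs L inf_le_right l))

theorem tens_natural (f : M ⟶ N) (hM : Coh.IsCoh M) :
    tmap (pre f G) (𝟙 L) ≫ tens M G L = tens N G L ≫ pre f (CohB1.tensorMod G L) := by
  refine Modules.StalkModule.hom_ext_stalkMapₗ fun x => stalk_ext_pair fun v w => ?_
  refine (RefHull.Colim.stalkMap_comp _ _ x _).trans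
    (Eq.trans ?_ (RefHull.Colim.stalkMap_comp _ _ x _).symm)
  rw [stalkMap_tmap]
  apply RefHull.HomSh.evalStalk_injective hM x
  rw [evalStalk_tens, evalStalk_pre, evalStalk_pre, evalStalk_tens, LinearMap.comp_assoc]
  exact congrArg (fun t => ((RefHull.Tensor.pair x).flip t).comp _)
    (LinearMap.congr_fun (Modules.StalkModule.stalkMapₗ_id x) w)

theorem exists_pair_bijective (hL : PicF.IsInvertible L) (x : X) :
    ∃ e : L.presheaf.stalk x, ∀ H : X.Modules,
      Function.Bijective fun v : H.presheaf.stalk x => RefHull.Tensor.pair x v e := by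
  obtain ⟨U, e, hx, he⟩ := TensorMod.Gen.isInvertible_iff.1 hL x
  refine ⟨L.presheaf.germ U x hx e, fun H => ?_⟩
  have hb := H34.UFDExt.Gen.IsGen.stalk_bijective (M := L) (fun W h => he W h) hx
  let ε : X.presheaf.stalk x ≃ₗ[X.presheaf.stalk x] L.presheaf.stalk x :=
    LinearEquiv.ofBijective (LinearMap.toSpanSingleton _ _ (L.presheaf.germ U x hx e)) hb
  let Φ : H.presheaf.stalk x ≃ₗ[X.presheaf.stalk x] (CohB1.tensorMod H L).presheaf.stalk x :=
    (TensorProduct.rid _ _).symm ≪≫ₗ TensorProduct.congr (LinearEquiv.refl _ _) ε ≪≫ₗ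
      (RefHull.Tensor.tStalk H L x).symm
  convert Φ.bijective with v
  show _ = (RefHull.Tensor.tStalk H L x).symm
    (TensorProduct.congr (LinearEquiv.refl _ _) ε ((TensorProduct.rid _ _).symm v))
  rw [TensorProduct.rid_symm_apply, TensorProduct.congr_tmul]
  exact congrArg (fun t => (RefHull.Tensor.tStalk H L x).symm (v ⊗ₜ t)) (one_smul (X.presheaf.stalk x) _).symm

theorem isIso_tens [IsLocallyNoetherian X] (hM : Coh.IsCoh M) (hL : PicF.IsInvertible L) :
    IsIso (tens M G L) := by
  refine (Modules.StalkModule.isIso_iff_stalkMapₗ_bijective _).2 fun x => ?_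
  obtain ⟨e, he⟩ := exists_pair_bijective hL x
  let ψ : G.presheaf.stalk x ≃ₗ[X.presheaf.stalk x] (CohB1.tensorMod G L).presheaf.stalk x :=
    LinearEquiv.ofBijective ((RefHull.Tensor.pair x).flip e) (he G)
  have hev := RefHull.HomSh.evalStalk_bijective (F := M) (G := CohB1.tensorMod G L) hM x
  have hcomp : ∀ v : (_root_.RefHull.homSh M G).presheaf.stalk x,
      _root_.RefHull.evalStalk M (CohB1.tensorMod G L) x
        (_root_.RefHull.stalkMapₗ (tens M G L) x (RefHull.Tensor.pair x v e)) =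
      ψ.congrRight (_root_.RefHull.evalStalk M G x v) := fun v => evalStalk_tens x v e
  have hb : Function.Bijective fun v : (_root_.RefHull.homSh M G).presheaf.stalk x =>
      _root_.RefHull.stalkMapₗ (tens M G L) x (RefHull.Tensor.pair x v e) := by
    refine (Function.Bijective.of_comp_iff' hev _).1 ?_
    rw [show _ ∘ _ = fun v => ψ.congrRight (_root_.RefHull.evalStalk M G x v) from funext hcomp]
    exact ψ.congrRight.bijective.comp (RefHull.HomSh.evalStalk_bijective hM x)
  exact (Function.Bijective.of_comp_iff _ (he _)).1 hb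

end Groth.Agent.Lib.HomSheaf.Basic
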